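import Groth.Agent.H29.AB4
import Groth.Agent.H29.RegFree
import Groth.Agent.Lead.RegularGlDim

/-!
# Depth plus projective dimension over a regular local ring, pointwise criterion (helper58)
-/

set_option autoImplicit false
set_option linter.unusedSectionVars false
set_option linter.style.haveILetI false
universe u

open CategoryTheory

namespace Groth.Agent.H58.RectDepth

section
variable (R : Type u) [CommRing R] [IsRegularLocalRing R]
  (M : Type u) [AddCommGroup M] [Module R M] [Module.Finite R M]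

theorem exists_pd_depth [Nontrivial M] (d : ℕ) (hd : ringKrullDim R = d) :
    ∃ e m : ℕ, projectiveDimension (ModuleCat.of R M) = e ∧ LocCoh.depth R M = m ∧ d = e + m := by
  have hpd := Groth.Agent.Lead.RLR.hasProjectiveDimensionLT R d hd (ModuleCat.of R M)
  have hne : projectiveDimension (ModuleCat.of R M) ≠ ⊤ := by
    have h1 := (projectiveDimension_le_iff _ d).2 hpd
    intro h2
    rw [h2] at h1
    have h3 : ((d : ℕ) : WithBot ℕ∞) < ⊤ := WithBot.coe_lt_coe.2 (ENat.natCast_lt_top d)
    exact absurd h1 (not_le.2 h3)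
  have hnz : ¬ Limits.IsZero (ModuleCat.of R M) := by
    intro h
    exact not_subsingleton M (ModuleCat.subsingleton_of_isZero h)
  obtain ⟨e, he⟩ := Groth.Agent.H29.AB.exists_nat_pd _ hne hnz
  have hAB := Groth.Agent.H29.AB.auslander_buchsbaum M e he
  have hdep := Groth.Agent.H29.RegFree.depth_eq_of_regular R d hd
  obtain ⟨m, hm⟩ : ∃ m : ℕ, LocCoh.depth R M = m := by
    have : LocCoh.depth R M ≠ ⊤ := by
      intro h
      rw [hdep, h] at hAB
      simp at hAB
    exact ⟨_, (ENat.natCast_toNat this).symm⟩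
  rw [hdep, hm] at hAB
  exact ⟨e, m, he, hm, by exact_mod_cast hAB⟩

theorem rect_iff (d D n : ℕ) (hd : ringKrullDim R = d) (c : WithBot ℕ∞)
    (hc : (D : WithBot ℕ∞) = c + d) :
    (n : WithBot ℕ∞) ≤ ((LocCoh.depth R M : ℕ∞) : WithBot ℕ∞) + c ↔
      Subsingleton M ∨ (n ≤ D ∧
        projectiveDimension (ModuleCat.of R M) ≤ ((D - n : ℕ) : WithBot ℕ∞)) := by
  -- `c` is a natural number
  obtain ⟨k, rfl, hk⟩ : ∃ k : ℕ, c = (k : WithBot ℕ∞) ∧ D = k + d := by
    induction c with
    | bot => simp at hc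
    | coe c' =>
      induction c' with
      | top =>
        exfalso
        have : ((D : ℕ) : WithBot ℕ∞) = ⊤ := by
          rw [hc]
          rfl
        have h3 : ((D : ℕ) : WithBot ℕ∞) < ⊤ := WithBot.coe_lt_coe.2 (ENat.natCast_lt_top D)
        exact absurd this h3.ne
      | coe k =>
        refine ⟨k, rfl, ?_⟩
        have : ((D : ℕ) : WithBot ℕ∞) = ((k + d : ℕ) : WithBot ℕ∞) := by
          rw [hc]
          push_cast
          rfl
        exact_mod_cast this
  by_cases hM : Subsingleton M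
  · simp only [hM, true_or, iff_true]
    rw [Groth.Agent.H29.CML.depth_eq_top_of_subsingleton]
    have : ((⊤ : ℕ∞) : WithBot ℕ∞) + (k : WithBot ℕ∞) = ⊤ := by
      rfl
    rw [this]
    exact le_top
  · haveI : Nontrivial M := not_subsingleton_iff_nontrivial.1 hM
    obtain ⟨e, m, he, hm, hdem⟩ := exists_pd_depth R M d hd
    simp only [hM, false_or]
    rw [he, hm]
    have h1 : ((n : ℕ) : WithBot ℕ∞) ≤ (((m : ℕ) : ℕ∞) : WithBot ℕ∞) + (k : WithBot ℕ∞) ↔
        n ≤ m + k := by
      have : (((m : ℕ) : ℕ∞) : WithBot ℕ∞) + (k : WithBot ℕ∞) = ((m + k : ℕ) : WithBot ℕ∞) := by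
        push_cast
        rfl
      rw [this]
      exact_mod_cast Iff.rfl
    have h2 : ((e : ℕ) : WithBot ℕ∞) ≤ ((D - n : ℕ) : WithBot ℕ∞) ↔ e ≤ D - n := by
      exact_mod_cast Iff.rfl
    rw [h1, h2]
    omega

end

end Groth.Agent.H58.RectDepth
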