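import Groth.Agent.H58.RectDepth.Dim
import Groth.Agent.H58.RectDepth.Pointwise
import Groth.Agent.H58.DualSch.SkModel
import Groth.Agent.H17.PdLocus
import Groth.Agent.H13.QuasiFlat
import Groth.Prelude.Def_EGA43

/-!
# Lower semicontinuity of the rectified depth on a regular biequidimensional scheme
(helper58; S4907)
-/

set_option autoImplicit false
set_option linter.unusedSectionVars false
set_option linter.style.haveILetI false
universe u

open CategoryTheory AlgebraicGeometry Topology TopologicalSpace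

namespace Groth.Agent.H58.RectDepth

/-- stalks of a quasi-coherent module at points of an affine open, as localizations of the module of
sections -/
theorem exists_semilinear_sections {X : Scheme.{u}} (F : X.Modules) [F.IsQuasicoherent]
    {W : X.Opens} (hW : IsAffineOpen W) {y : X} (hy : y ∈ W) :
    ∃ (σ : Localization.AtPrime (hW.primeIdealOf ⟨y, hy⟩).asIdeal ≃+* X.presheaf.stalk y)
      (ψ : LocalizedModule (hW.primeIdealOf ⟨y, hy⟩).asIdeal.primeCompl Γ(F, W) ≃+
        F.presheaf.stalk y),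
      ∀ (r : Localization.AtPrime (hW.primeIdealOf ⟨y, hy⟩).asIdeal)
        (x : LocalizedModule (hW.primeIdealOf ⟨y, hy⟩).asIdeal.primeCompl Γ(F, W)),
        ψ (r • x) = σ r • ψ x := by
  let _ : Algebra Γ(X, W) (X.presheaf.stalk y) :=
    TopCat.Presheaf.algebra_section_stalk X.presheaf ⟨y, hy⟩
  have : IsLocalization.AtPrime (X.presheaf.stalk y) (hW.primeIdealOf ⟨y, hy⟩).asIdeal :=
    hW.isLocalization_stalk ⟨y, hy⟩
  let _ := Groth.Agent.H8.stalkModule F hy
  have : IsScalarTower Γ(X, W) (X.presheaf.stalk y) (F.presheaf.stalk y) :=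
    .of_algebraMap_smul fun _ _ => rfl
  have := Groth.Agent.H8.isLocalizedModule_germₗ F hW hy
  exact Groth.Agent.H58.DualSch.exists_semilinear_of_isLocalizedModule
    (hW.primeIdealOf ⟨y, hy⟩).asIdeal (X.presheaf.stalk y) (Groth.Agent.H8.germₗ F hy)

theorem main4907 (X : Scheme.{u}) [IsNoetherian X]
    (hreg : ∀ x : X, IsRegularLocalRing ↑(X.presheaf.stalk x))
    (hfin : topologicalKrullDim X < ⊤)
    (hcomp : ∀ C ∈ irreducibleComponents (X : Type u),
      topologicalKrullDim ↥C = topologicalKrullDim X)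
    (hchain : ∀ (y : X) (T : Set X), IsClosed T → IsIrreducible T → y ∈ T →
      topologicalKrullDim ↥T = topologicalKrullDim ↥(closure ({y} : Set X)) +
        topologicalKrullDim ↥{t : X | t ∈ T ∧ t ⤳ y})
    (F : X.Modules) (hF : Coh.IsCoh F) (n : ℕ) :
    IsOpen {x : X | (n : WithBot ℕ∞) ≤
      ((LocCoh.depth ↑(X.presheaf.stalk x) ↑(F.presheaf.stalk x) : ℕ∞) : WithBot ℕ∞) +
        topologicalKrullDim ↥(closure ({x} : Set X))} := by
  rw [isOpen_iff_forall_mem_open]
  intro x hxG
  -- the dimension of `X` is a natural number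
  obtain ⟨D, hD⟩ : ∃ D : ℕ, topologicalKrullDim X = D := by
    haveI : Nonempty (IrreducibleCloseds X) :=
      ⟨⟨closure {x}, isIrreducible_singleton.closure, isClosed_closure⟩⟩
    have h0 : (0 : WithBot ℕ∞) ≤ topologicalKrullDim X := Order.krullDim_nonneg
    generalize topologicalKrullDim X = a at h0 hfin
    induction a with
    | bot => simp at h0
    | coe a' =>
      induction a' with
      | top => exact absurd hfin (lt_irrefl _)
      | coe k => exact ⟨k, rfl⟩
  have hFc := hF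
  obtain ⟨hqc, hft⟩ := hF
  haveI : F.IsQuasicoherent := hqc
  haveI : SheafOfModules.IsFiniteType (R := X.ringCatSheaf) F := hft
  obtain ⟨W, hW, hxW, -⟩ := exists_isAffineOpen_mem_and_subset (x := x) (U := ⊤) trivial
  haveI : IsNoetherianRing Γ(X, W) := IsLocallyNoetherian.component_noetherian ⟨W, hW⟩
  haveI : Module.Finite Γ(X, W) Γ(F, W) := Groth.Agent.H44.finite_sections_of_isFiniteType F hW
  let Q : Set (PrimeSpectrum Γ(X, W)) := (Module.support Γ(X, W) Γ(F, W))ᶜ ∪
    {p | n ≤ D ∧ projectiveDimension (Groth.Agent.H17.PdLocus.locMod Γ(X, W) Γ(F, W) p) ≤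
      ((D - n : ℕ) : WithBot ℕ∞)}
  have hQ : IsOpen Q := by
    refine IsOpen.union Module.isClosed_support.isOpen_compl ?_
    by_cases hnD : n ≤ D
    · have := Groth.Agent.H17.PdLocus.isOpen_pd_le Γ(X, W) (D - n) Γ(F, W)
      simpa [hnD] using this
    · simp [hnD]
  -- the key pointwise equivalence
  have key : ∀ (y : X) (hy : y ∈ W), (n : WithBot ℕ∞) ≤
      ((LocCoh.depth ↑(X.presheaf.stalk y) ↑(F.presheaf.stalk y) : ℕ∞) : WithBot ℕ∞) +
        topologicalKrullDim ↥(closure ({y} : Set X)) ↔ hW.primeIdealOf ⟨y, hy⟩ ∈ Q := by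
    intro y hy
    obtain ⟨σ, ψ, hψ⟩ := exists_semilinear_sections F hW hy
    haveI := hreg y
    haveI : IsDomain (X.presheaf.stalk y) := Groth.Agent.Lead.RLR.isDomain _
    haveI : IsRegularLocalRing (Localization.AtPrime (hW.primeIdealOf ⟨y, hy⟩).asIdeal) :=
      IsRegularLocalRing.of_ringEquiv σ.symm
    haveI : Module.Finite (X.presheaf.stalk y) (F.presheaf.stalk y) :=
      Groth.Agent.H13.finite_stalk_of_isCoh F hFc y
    obtain ⟨d, hd, -⟩ := Groth.Agent.Lead.RLR.exists_ringKrullDim_eq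
      (R := Localization.AtPrime (hW.primeIdealOf ⟨y, hy⟩).asIdeal)
    have hdep : LocCoh.depth (Localization.AtPrime (hW.primeIdealOf ⟨y, hy⟩).asIdeal)
        (LocalizedModule (hW.primeIdealOf ⟨y, hy⟩).asIdeal.primeCompl Γ(F, W)) =
        LocCoh.depth (X.presheaf.stalk y) (F.presheaf.stalk y) :=
      Groth.Agent.H29.LocTrans.depth_eq_of_semilinear σ ψ hψ
    have hdim := dim_eq_closure_add_stalk X y hcomp hchain
    rw [hD, ← ringKrullDim_eq_of_ringEquiv σ, hd] at hdim
    rw [← hdep, rect_iff _ _ d D n hd _ hdim]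
    change _ ↔ (_ ∈ (Module.support Γ(X, W) Γ(F, W))ᶜ ∨ _)
    rw [Set.mem_compl_iff, Module.notMem_support_iff]
    rfl
  have hx : hW.fromSpec (hW.primeIdealOf ⟨x, hxW⟩) = x := hW.fromSpec_primeIdealOf ⟨x, hxW⟩
  refine ⟨hW.fromSpec '' Q, ?_, hW.fromSpec.isOpenEmbedding.isOpenMap _ hQ, ?_⟩
  · rintro _ ⟨p, hp, rfl⟩
    have hy : hW.fromSpec p ∈ W := by
      have : hW.fromSpec p ∈ Set.range hW.fromSpec := ⟨p, rfl⟩
      rw [hW.range_fromSpec] at this
      exact this
    have hp' : hW.primeIdealOf ⟨hW.fromSpec p, hy⟩ = p :=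
      hW.fromSpec.isOpenEmbedding.injective (hW.fromSpec_primeIdealOf ⟨hW.fromSpec p, hy⟩)
    rw [Set.mem_ofPred_eq, key _ hy, hp']
    exact hp
  · exact ⟨hW.primeIdealOf ⟨x, hxW⟩, (key x hxW).1 hxG, hx⟩

end Groth.Agent.H58.RectDepth
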