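import Groth.Agent.H17.Chev.GenzDim

/-!
# Dimension formula on a biequidimensional scheme at a point with integral local ring (helper58)
-/

set_option autoImplicit false
set_option linter.unusedSectionVars false
universe u

open CategoryTheory AlgebraicGeometry Topology TopologicalSpace

namespace Groth.Agent.H58.RectDepth

/-- the set of generizations of `x` has the dimension of the local ring at `x` -/
theorem dim_generizations_eq (X : Scheme.{u}) (x : X) :
    topologicalKrullDim ↥{t : X | t ⤳ x} = ringKrullDim (X.presheaf.stalk x) := by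
  rw [← Groth.Agent.H17.Chev.topologicalKrullDim_eq_of_isEmbedding (X.fromSpecStalk x).base
    (X.fromSpecStalk x).isEmbedding _ Scheme.range_fromSpecStalk]
  exact PrimeSpectrum.topologicalKrullDim_eq_ringKrullDim _

/-- if the local ring at `x` is a domain, every generization of `x` lies on every irreducible
component through `x` -/
theorem mem_of_specializes_of_isDomain (X : Scheme.{u}) (x : X) [IsDomain (X.presheaf.stalk x)]
    (T : Set X) (hT : T ∈ irreducibleComponents (X : Type u)) (hxT : x ∈ T) (t : X) (ht : t ⤳ x) :
    t ∈ T := by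
  have hTc : IsClosed T := isClosed_of_mem_irreducibleComponents T hT
  have hTi : IsIrreducible T := hT.prop
  -- the generic point of `T`
  have hη := hTi.isGenericPoint_genericPoint_closure
  rw [hTc.closure_eq] at hη
  set η := hTi.genericPoint with hηdef
  have hηx : η ⤳ x := by
    rw [specializes_iff_mem_closure, hη.def]
    exact hxT
  -- the generic point of `Spec O_x`
  let ξ : PrimeSpectrum (X.presheaf.stalk x) := ⟨⊥, Ideal.isPrime_bot⟩
  have hξ : ∀ s : X, s ⤳ x → (X.fromSpecStalk x) ξ ⤳ s := by
    intro s hs
    have hs' : s ∈ Set.range (X.fromSpecStalk x) := by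
      rw [Scheme.range_fromSpecStalk]
      exact hs
    obtain ⟨q, rfl⟩ := hs'
    have hq : (ξ : PrimeSpectrum (X.presheaf.stalk x)) ⤳
        (show PrimeSpectrum (X.presheaf.stalk x) from q) :=
      (PrimeSpectrum.le_iff_specializes _ _).1 (bot_le (a := q.asIdeal))
    exact Specializes.map hq (X.fromSpecStalk x).continuous
  have h1 : T ⊆ closure {(X.fromSpecStalk x) ξ} := by
    rw [← hη.def]
    exact closure_minimal (Set.singleton_subset_iff.2 (hξ η hηx).mem_closure) isClosed_closure
  have h2 : closure {(X.fromSpecStalk x) ξ} ⊆ T :=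
    hT.le_of_ge isIrreducible_singleton.closure h1
  exact h2 (hξ t ht).mem_closure

theorem dim_eq_closure_add_stalk (X : Scheme.{u}) (x : X) [IsDomain (X.presheaf.stalk x)]
    (hcomp : ∀ C ∈ irreducibleComponents (X : Type u),
      topologicalKrullDim ↥C = topologicalKrullDim X)
    (hchain : ∀ (y : X) (T : Set X), IsClosed T → IsIrreducible T → y ∈ T →
      topologicalKrullDim ↥T = topologicalKrullDim ↥(closure ({y} : Set X)) +
        topologicalKrullDim ↥{t : X | t ∈ T ∧ t ⤳ y}) :
    topologicalKrullDim X =
      topologicalKrullDim ↥(closure ({x} : Set X)) + ringKrullDim (X.presheaf.stalk x) := by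
  obtain ⟨T, hT, hxT⟩ := exists_mem_irreducibleComponents_subset_of_isIrreducible
    ({x} : Set X) isIrreducible_singleton
  rw [Set.singleton_subset_iff] at hxT
  have hTc : IsClosed T := isClosed_of_mem_irreducibleComponents T hT
  have hTi : IsIrreducible T := hT.prop
  have hset : {t : X | t ∈ T ∧ t ⤳ x} = {t : X | t ⤳ x} := by
    ext t
    exact ⟨fun h => h.2, fun h => ⟨mem_of_specializes_of_isDomain X x T hT hxT t h, h⟩⟩
  rw [← hcomp T hT, hchain x T hTc hTi hxT, hset, dim_generizations_eq]

end Groth.Agent.H58.RectDepth
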