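import Groth.Agent.H58.RectDepth.Dim
import Groth.Agent.H29.AB4
import Groth.Agent.H29.RegFree
import Groth.Agent.H13.QuasiFlat
import Groth.Prelude.Def_EGA43

/-!
# Rectified depth on a regular biequidimensional scheme (helper58; S4906)
-/

set_option autoImplicit false
set_option linter.unusedSectionVars false
set_option linter.style.haveILetI false
universe u

open CategoryTheory AlgebraicGeometry Topology TopologicalSpace

namespace Groth.Agent.H58.RectDepth

theorem main4906 (X : Scheme.{u})
    (hreg : ∀ x : X, IsRegularLocalRing ↑(X.presheaf.stalk x))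
    (hcomp : ∀ C ∈ irreducibleComponents (X : Type u),
      topologicalKrullDim ↥C = topologicalKrullDim X)
    (hchain : ∀ (y : X) (T : Set X), IsClosed T → IsIrreducible T → y ∈ T →
      topologicalKrullDim ↥T = topologicalKrullDim ↥(closure ({y} : Set X)) +
        topologicalKrullDim ↥{t : X | t ∈ T ∧ t ⤳ y})
    (F : X.Modules) (hF : Coh.IsCoh F) (x : X) (hx : x ∈ CohB1.support F) :
    ((LocCoh.depth ↑(X.presheaf.stalk x) ↑(F.presheaf.stalk x) : ℕ∞) : WithBot ℕ∞) +
        topologicalKrullDim ↥(closure ({x} : Set X)) +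
        projectiveDimension (ModuleCat.of ↑(X.presheaf.stalk x) ↑(F.presheaf.stalk x)) =
      topologicalKrullDim X := by
  haveI := hreg x
  haveI : IsDomain (X.presheaf.stalk x) := Groth.Agent.Lead.RLR.isDomain _
  haveI : Module.Finite (X.presheaf.stalk x) (F.presheaf.stalk x) :=
    Groth.Agent.H13.finite_stalk_of_isCoh F hF x
  haveI : Nontrivial (F.presheaf.stalk x) := not_subsingleton_iff_nontrivial.1 hx
  obtain ⟨d, hd, -⟩ := Groth.Agent.Lead.RLR.exists_ringKrullDim_eq (R := X.presheaf.stalk x)
  have hpd := Groth.Agent.Lead.RLR.hasProjectiveDimensionLT (X.presheaf.stalk x) d hd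
    (ModuleCat.of _ (F.presheaf.stalk x))
  have hne : projectiveDimension (ModuleCat.of (X.presheaf.stalk x) (F.presheaf.stalk x)) ≠ ⊤ := by
    have h1 := (projectiveDimension_le_iff _ d).2 hpd
    intro h2
    rw [h2] at h1
    have h3 : ((d : ℕ) : WithBot ℕ∞) < ⊤ :=
      WithBot.coe_lt_coe.2 (ENat.natCast_lt_top d)
    exact absurd h1 (not_le.2 h3)
  have hnz : ¬ Limits.IsZero (ModuleCat.of (X.presheaf.stalk x) (F.presheaf.stalk x)) := by
    intro h
    exact not_subsingleton (F.presheaf.stalk x) (ModuleCat.subsingleton_of_isZero h)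
  obtain ⟨e, he⟩ := Groth.Agent.H29.AB.exists_nat_pd _ hne hnz
  have hAB := Groth.Agent.H29.AB.auslander_buchsbaum (F.presheaf.stalk x) e he
  have hdep := Groth.Agent.H29.RegFree.depth_eq_of_regular (X.presheaf.stalk x) d hd
  have hdim := dim_eq_closure_add_stalk X x hcomp hchain
  obtain ⟨m, hm⟩ : ∃ m : ℕ, LocCoh.depth (X.presheaf.stalk x) (F.presheaf.stalk x) = m := by
    have : LocCoh.depth (X.presheaf.stalk x) (F.presheaf.stalk x) ≠ ⊤ := by
      intro h
      rw [hdep, h] at hAB
      simp at hAB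
    exact ⟨_, (ENat.natCast_toNat this).symm⟩
  rw [hdep, hm] at hAB
  have hdem : d = e + m := by exact_mod_cast hAB
  rw [hm, he, hdim, hd, hdem]
  push_cast
  generalize topologicalKrullDim ↥(closure ({x} : Set X)) = c
  rw [add_comm (e : WithBot ℕ∞) (m : WithBot ℕ∞), ← add_assoc, add_comm (m : WithBot ℕ∞) c]

end Groth.Agent.H58.RectDepth
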